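import Mathlib.LinearAlgebra.BilinearMap
import Mathlib.LinearAlgebra.BilinearForm.Properties
import Mathlib.LinearAlgebra.FreeModule.PID
import Mathlib.LinearAlgebra.Dimension.Constructions
import Mathlib.Algebra.GCDMonoid.Finset
import Mathlib.Data.ZMod.QuotientGroup
import Mathlib.GroupTheory.SpecificGroups.Cyclic
import Mathlib.RingTheory.Int.Basic
import Mathlib.Tactic

/-!
# Boundary forms of a symmetric lattice pairing modulo `δ`
-/

namespace Groth.Agent.H4Alg.BoundaryForms

open Module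

/-- A basis in which a given vector is a multiple of the first basis vector. -/
theorem exists_basis {r : ℕ} (hr : 0 < r) (d : Fin r → ℤ) :
    ∃ f : Basis (Option (Fin (r - 1))) ℤ (Fin r → ℤ), d = (Finset.univ.gcd d) • f none := by
  obtain ⟨d', hd', hgd⟩ := Finset.extract_gcd d (Finset.univ_nonempty_iff.2 ⟨⟨0, hr⟩⟩)
  obtain ⟨c, hc⟩ : ∃ c : Fin r → ℤ, ∑ i, c i * d' i = 1 := by
    obtain ⟨c, hc⟩ := Finset.gcd_eq_sum_mul Finset.univ d'
    exact ⟨c, by rw [← hgd, hc]; exact Finset.sum_congr rfl fun i _ => mul_comm _ _⟩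
  let φ : (Fin r → ℤ) →ₗ[ℤ] ℤ := ∑ i, c i • LinearMap.proj i
  have hφ : φ d' = 1 := by simp [φ, hc]
  let e : (Fin r → ℤ) ≃ₗ[ℤ] ℤ × LinearMap.ker φ :=
    LinearEquiv.ofLinear (φ.prod
      ((LinearMap.id - φ.smulRight d').codRestrict _ fun x => by
        rw [LinearMap.mem_ker, LinearMap.sub_apply, LinearMap.id_apply, LinearMap.smulRight_apply, map_sub,
          map_smul, hφ, smul_eq_mul, mul_one, sub_self]))
      ((LinearMap.id.smulRight d').coprod (LinearMap.ker φ).subtype)
      (LinearMap.ext fun tz => by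
        obtain ⟨t, z, hz⟩ := tz
        have hz' : φ z = 0 := hz
        have hz'' : φ (t • d' + z) = t := by rw [map_add, map_smul, hφ, hz', smul_eq_mul, mul_one, add_zero]
        refine Prod.ext hz'' (Subtype.ext ?_)
        show t • d' + z - φ (t • d' + z) • d' = z
        rw [hz'', add_sub_cancel_left])
      (LinearMap.ext fun x => by
        show φ x • d' + (x - φ x • d') = x
        rw [add_sub_cancel])
  haveI : Module.Free ℤ (LinearMap.ker φ) := inferInstance
  let b := Module.Free.chooseBasis ℤ (LinearMap.ker φ)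
  have hrank : Fintype.card (Module.Free.ChooseBasisIndex ℤ (LinearMap.ker φ)) = r - 1 := by
    have := e.finrank_eq
    rw [Module.finrank_prod, Module.finrank_self, Module.finrank_fin_fun, Module.finrank_eq_card_chooseBasisIndex] at this
    omega
  let σ : Unit ⊕ Module.Free.ChooseBasisIndex ℤ (LinearMap.ker φ) ≃ Option (Fin (r - 1)) :=
    (Equiv.sumCongr (Equiv.refl _) (Fintype.equivFinOfCardEq hrank)).trans
      ((Equiv.sumComm _ _).trans ((Equiv.optionEquivSumPUnit _).symm))
  refine ⟨(((Basis.singleton Unit ℤ).prod b).map e.symm).reindex σ, ?_⟩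
  have h0 : σ.symm none = Sum.inl () := by simp [σ]
  rw [Basis.reindex_apply, h0, Basis.map_apply, Basis.prod_apply]
  funext i
  simp [e, hd' i (Finset.mem_univ i)]

variable {r : ℕ} (δ : ℕ) (g : ℤ) (d : Fin r → ℤ)

/-- The boundary forms. -/
def forms : Set ((Fin r → ℤ) →+ ZMod δ) :=
  {φ | ∃ b : LinearMap.BilinForm ℤ (Fin r → ℤ), b.IsSymm ∧ ∀ x, φ x = ((b d x + (1 - g) * b x x : ℤ) : ZMod δ)}

/-- Every symmetric form gives an additive boundary form. -/
theorem exists_form (hδ : (δ : ℤ) ∣ 2 * (g - 1)) (b : LinearMap.BilinForm ℤ (Fin r → ℤ)) (hb : b.IsSymm) :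
    ∃ φ ∈ forms δ g d, ∀ x, φ x = ((b d x + (1 - g) * b x x : ℤ) : ZMod δ) := by
  refine ⟨AddMonoidHom.mk' (fun x => ((b d x + (1 - g) * b x x : ℤ) : ZMod δ)) fun x y => ?_, ⟨b, hb, fun x => rfl⟩,
    fun x => rfl⟩
  have h2 : ((2 * (g - 1) : ℤ) : ZMod δ) = 0 := (ZMod.intCast_zmod_eq_zero_iff_dvd _ _).2 hδ
  have hyx : b y x = b x y := (hb.eq x y).symm
  simp only [map_add, LinearMap.add_apply, hyx]
  push_cast at h2 ⊢
  linear_combination (-(((b x y : ℤ) : ZMod δ))) * h2

section Coordinates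

variable {m : ℕ} (f : Basis (Option (Fin m)) ℤ (Fin r → ℤ))

/-- Coordinates of an additive map in a basis. -/
noncomputable def coords : ((Fin r → ℤ) →+ ZMod δ) ≃+ ZMod δ × (Fin m → ZMod δ) where
  toFun φ := (φ (f none), fun i => φ (f (some i)))
  invFun v := (f.constr ℤ fun o => o.elim v.1 v.2).toAddMonoidHom
  left_inv φ := by
    have : f.constr ℤ (fun o => o.elim (φ (f none)) fun i => φ (f (some i))) = φ.toIntLinearMap := by
      refine f.ext fun o => ?_
      rw [Basis.constr_basis]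
      cases o <;> rfl
    refine AddMonoidHom.ext fun x => ?_
    exact LinearMap.congr_fun this x
  right_inv v := by
    refine Prod.ext ?_ (funext fun i => ?_)
    · exact Basis.constr_basis f ℤ _ none
    · exact Basis.constr_basis f ℤ _ (some i)
  map_add' φ ψ := rfl

/-- The image of the boundary forms in coordinates. -/
def target : AddSubgroup (ZMod δ × (Fin m → ZMod δ)) :=
  (AddSubgroup.zmultiples (((Finset.univ.gcd d + 1 - g : ℤ)) : ZMod δ)).prod
    (AddSubgroup.pi Set.univ fun _ => AddSubgroup.zmultiples ((Int.gcd (g - 1) (Finset.univ.gcd d) : ℤ) : ZMod δ))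

theorem map_closure_forms (hδ : (δ : ℤ) ∣ 2 * (g - 1)) (hf : d = (Finset.univ.gcd d) • f none) :
    (AddSubgroup.closure (forms δ g d)).map (coords δ f).toAddMonoidHom = target δ g d := by
  classical
  set D := Finset.univ.gcd d
  set G : ℤ := (Int.gcd (g - 1) D : ℤ) with hG
  refine le_antisymm ?_ ?_
  · rw [AddMonoidHom.map_closure, AddSubgroup.closure_le]
    rintro _ ⟨φ, ⟨b, hb, hφ⟩, rfl⟩
    have hbd : ∀ x, b d x = D * b (f none) x := fun x => by
      rw [hf, map_smul, LinearMap.smul_apply, smul_eq_mul]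
    refine AddSubgroup.mem_prod.2 ⟨AddSubgroup.mem_zmultiples_iff.2 ⟨b (f none) (f none), ?_⟩,
      fun i _ => ?_⟩
    · show _ = φ (f none)
      rw [hφ, hbd, zsmul_eq_mul]
      push_cast
      ring
    · obtain ⟨s, hs⟩ := (hG ▸ Int.gcd_dvd_left (g - 1) D : G ∣ g - 1)
      obtain ⟨t, ht⟩ := (hG ▸ Int.gcd_dvd_right (g - 1) D : G ∣ D)
      refine AddSubgroup.mem_zmultiples_iff.2 ⟨t * b (f none) (f (some i)) - s * b (f (some i)) (f (some i)), ?_⟩
      show _ = φ (f (some i))
      rw [hφ, hbd, zsmul_eq_mul, ← Int.cast_mul]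
      congr 1
      linear_combination (b (f (some i)) (f (some i))) * hs - (b (f none) (f (some i))) * ht
  · have single : ∀ (b : LinearMap.BilinForm ℤ (Fin r → ℤ)), b.IsSymm →
        ((((D + 1 - g) * b (f none) (f none) : ℤ) : ZMod δ),
          fun i => ((D * b (f none) (f (some i)) + (1 - g) * b (f (some i)) (f (some i)) : ℤ) : ZMod δ)) ∈
        (AddSubgroup.closure (forms δ g d)).map (coords δ f).toAddMonoidHom := by
      intro b hb
      obtain ⟨φ, hφ, hval⟩ := exists_form δ g d hδ b hb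
      have hbd : ∀ x, b d x = D * b (f none) x := fun x => by
        rw [hf, map_smul, LinearMap.smul_apply, smul_eq_mul]
      refine ⟨φ, AddSubgroup.subset_closure hφ, Prod.ext ?_ (funext fun i => ?_)⟩
      · show φ (f none) = _
        rw [hval, hbd]
        congr 1
        ring
      · show φ (f (some i)) = _
        rw [hval, hbd]
    let B : Option (Fin m) → Option (Fin m) → LinearMap.BilinForm ℤ (Fin r → ℤ) := fun o o' =>
      LinearMap.mk₂ ℤ (fun x y => f.coord o x * f.coord o' y + f.coord o' x * f.coord o y)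
        (fun x x' y => by simp [add_mul]; ring) (fun c x y => by simp only [map_smul, smul_eq_mul]; ring)
        (fun x y y' => by simp [mul_add]; ring) (fun c x y => by simp only [map_smul, smul_eq_mul]; ring)
    let C : Option (Fin m) → LinearMap.BilinForm ℤ (Fin r → ℤ) := fun o =>
      LinearMap.mk₂ ℤ (fun x y => f.coord o x * f.coord o y)
        (fun x x' y => by simp [add_mul]) (fun c x y => by simp only [map_smul, smul_eq_mul]; ring)
        (fun x y y' => by simp [mul_add]) (fun c x y => by simp only [map_smul, smul_eq_mul]; ring)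
    have hB : ∀ o o', (B o o').IsSymm := fun o o' => ⟨fun x y => by simp [B]; ring⟩
    have hC : ∀ o, (C o).IsSymm := fun o => ⟨fun x y => by simp [C]; ring⟩
    set H := (AddSubgroup.closure (forms δ g d)).map (coords δ f).toAddMonoidHom
    have h1 : (((D + 1 - g : ℤ) : ZMod δ), (0 : Fin m → ZMod δ)) ∈ H := by
      convert single (C none) (hC none) using 1
      refine Prod.ext ?_ (funext fun i => ?_) <;> simp [C, Basis.coord_apply, Finsupp.single_apply]
    have h2 : ∀ i, ((0 : ZMod δ), Pi.single i ((D : ℤ) : ZMod δ)) ∈ H := by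
      intro i
      convert single (B none (some i)) (hB _ _) using 1
      refine Prod.ext ?_ (funext fun j => ?_)
      · simp [B, Basis.coord_apply, Finsupp.single_apply]
      · simp [B, Basis.coord_apply, Finsupp.single_apply, Pi.single_apply]
    have h3 : ∀ i, ((0 : ZMod δ), Pi.single i ((g - 1 : ℤ) : ZMod δ)) ∈ H := by
      intro i
      refine neg_mem_iff.1 ?_
      convert single (C (some i)) (hC _) using 1
      refine Prod.ext ?_ (funext fun j => ?_)
      · simp [C, Basis.coord_apply, Finsupp.single_apply]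
      · simp [C, Basis.coord_apply, Finsupp.single_apply, Pi.single_apply]
        split_ifs <;> simp_all
    rintro ⟨a, v⟩ hav
    obtain ⟨ha, hv⟩ := AddSubgroup.mem_prod.1 hav
    have hsplit : (a, v) = (a, (0 : Fin m → ZMod δ)) + ∑ i, ((0 : ZMod δ), Pi.single i (v i)) := by
      refine Prod.ext ?_ ?_
      · simp [Prod.fst_sum]
      · simp [Prod.snd_sum, Finset.univ_sum_single]
    rw [hsplit]
    refine add_mem ?_ (sum_mem fun i _ => ?_)
    · obtain ⟨t, ht⟩ := AddSubgroup.mem_zmultiples_iff.1 ha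
      have := H.zsmul_mem h1 t
      rwa [Prod.smul_mk, smul_zero, ht] at this
    · obtain ⟨t, ht⟩ := AddSubgroup.mem_zmultiples_iff.1 (hv i (Set.mem_univ i))
      have hGe : G = (g - 1) * Int.gcdA (g - 1) D + D * Int.gcdB (g - 1) D := Int.gcd_eq_gcd_ab _ _
      have := H.add_mem (H.zsmul_mem (h3 i) (t * Int.gcdA (g - 1) D)) (H.zsmul_mem (h2 i) (t * Int.gcdB (g - 1) D))
      convert this using 1
      simp only [Prod.smul_mk, smul_zero, Prod.mk_add_mk, add_zero]
      refine Prod.ext rfl ?_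
      show (Pi.single i (v i) : Fin m → ZMod δ) = _
      have ht' : t • ((G : ℤ) : ZMod δ) = v i := ht
      rw [← Pi.single_smul, ← Pi.single_smul, ← Pi.single_add, ← ht', zsmul_eq_mul, zsmul_eq_mul, zsmul_eq_mul]
      congr 1
      rw [hGe]
      push_cast
      ring

end Coordinates

/-- The kernel of a reduction map. -/
theorem ker_castHom (a : ℤ) :
    (ZMod.castHom (Int.natCast_dvd_natCast.1 (Int.gcd_dvd_left (δ : ℤ) a)) (ZMod (Int.gcd δ a))).toAddMonoidHom.ker =
      AddSubgroup.zmultiples (a : ZMod δ) := by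
  ext x
  obtain ⟨z, rfl⟩ := ZMod.intCast_surjective x
  rw [AddMonoidHom.mem_ker, RingHom.toAddMonoidHom_eq_coe, AddMonoidHom.coe_coe, map_intCast,
    ZMod.intCast_zmod_eq_zero_iff_dvd, AddSubgroup.mem_zmultiples_iff]
  constructor
  · rintro ⟨k, hk⟩
    refine ⟨k * Int.gcdB δ a, ?_⟩
    rw [hk, Int.gcd_eq_gcd_ab, zsmul_eq_mul]
    push_cast
    simp
    ring
  · rintro ⟨k, hk⟩
    rw [zsmul_eq_mul, ← Int.cast_mul, ZMod.intCast_eq_intCast_iff_dvd_sub] at hk
    have := dvd_add ((Int.gcd_dvd_left (δ : ℤ) a).trans hk) ((Int.gcd_dvd_right (δ : ℤ) a).mul_left k)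
    simpa using this

/-- The quotient by the boundary forms. -/
theorem nonempty_quotient_equiv (hr : 0 < r) (hδ : (δ : ℤ) ∣ 2 * (g - 1)) :
    Nonempty ((((Fin r → ℤ) →+ ZMod δ) ⧸ AddSubgroup.closure (forms δ g d)) ≃+
      (ZMod (Int.gcd δ (Finset.univ.gcd d + 1 - g)) ×
        (Fin (r - 1) → ZMod (Int.gcd δ (Int.gcd (g - 1) (Finset.univ.gcd d)))))) := by
  obtain ⟨f, hf⟩ := exists_basis hr d
  set D := Finset.univ.gcd d
  let π₁ := (ZMod.castHom (Int.natCast_dvd_natCast.1 (Int.gcd_dvd_left (δ : ℤ) (D + 1 - g)))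
    (ZMod (Int.gcd δ (D + 1 - g)))).toAddMonoidHom
  let π₂ := (ZMod.castHom (Int.natCast_dvd_natCast.1 (Int.gcd_dvd_left (δ : ℤ) (Int.gcd (g - 1) D : ℤ)))
    (ZMod (Int.gcd δ (Int.gcd (g - 1) D)))).toAddMonoidHom
  let π := π₁.prodMap (AddMonoidHom.compLeft π₂ (Fin (r - 1)))
  have hsurj : Function.Surjective π := fun ⟨a, v⟩ => by
    obtain ⟨a', ha'⟩ := ZMod.castHom_surjective (Int.natCast_dvd_natCast.1 (Int.gcd_dvd_left (δ : ℤ) (D + 1 - g))) a
    choose v' hv' using fun i => ZMod.castHom_surjective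
      (Int.natCast_dvd_natCast.1 (Int.gcd_dvd_left (δ : ℤ) (Int.gcd (g - 1) D : ℤ))) (v i)
    exact ⟨(a', v'), Prod.ext ha' (funext hv')⟩
  have hker : π.ker = target δ g d := by
    ext ⟨a, v⟩
    rw [AddMonoidHom.mem_ker, target, AddSubgroup.mem_prod, AddSubgroup.mem_pi, ← ker_castHom, ← ker_castHom]
    simp only [π, Prod.ext_iff, funext_iff, Set.mem_univ, true_implies]
    exact Iff.rfl
  let e₁ := QuotientAddGroup.congr (AddSubgroup.closure (forms δ g d)) π.ker (coords δ f)
    ((map_closure_forms δ g d f hδ hf).trans hker.symm)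
  exact ⟨e₁.trans (QuotientAddGroup.quotientKerEquivOfSurjective π hsurj)⟩

/-- A cyclic subgroup of `ℤ/δ`. -/
theorem nonempty_zmultiples_equiv (hδ0 : 0 < δ) (a : ℤ) :
    Nonempty (AddSubgroup.zmultiples (a : ZMod δ) ≃+ ZMod (δ / Int.gcd δ a)) := by
  haveI : NeZero δ := ⟨hδ0.ne'⟩
  set H := AddSubgroup.zmultiples (a : ZMod δ)
  have hcard : Nat.card H = δ / Int.gcd δ a := by
    have h := AddSubgroup.card_mul_index H
    simp only [H] at h
    rw [← ker_castHom, AddSubgroup.index_ker, Nat.card_zmod,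
      AddMonoidHom.range_eq_top.2 (ZMod.castHom_surjective (Int.natCast_dvd_natCast.1 (Int.gcd_dvd_left (δ : ℤ) a))),
      AddSubgroup.card_top, Nat.card_zmod] at h
    have hpos : 0 < Int.gcd δ a := Int.gcd_pos_of_ne_zero_left _ (by exact_mod_cast hδ0.ne')
    simp only [H, ← ker_castHom]
    exact (Nat.div_eq_of_eq_mul_left hpos h.symm).symm
  exact ⟨(hcard ▸ zmodAddCyclicAddEquiv inferInstance : ZMod (δ / Int.gcd δ a) ≃+ H).symm⟩

/-- The group of boundary forms. -/
theorem nonempty_closure_equiv (hr : 0 < r) (hδ0 : 0 < δ) (hδ : (δ : ℤ) ∣ 2 * (g - 1)) :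
    Nonempty (AddSubgroup.closure (forms δ g d) ≃+
      (ZMod (δ / Int.gcd δ (Finset.univ.gcd d + 1 - g)) ×
        (Fin (r - 1) → ZMod (δ / Int.gcd δ (Int.gcd (g - 1) (Finset.univ.gcd d)))))) := by
  obtain ⟨f, hf⟩ := exists_basis hr d
  obtain ⟨e₁⟩ := nonempty_zmultiples_equiv δ hδ0 (Finset.univ.gcd d + 1 - g)
  obtain ⟨e₂⟩ := nonempty_zmultiples_equiv δ hδ0 (Int.gcd (g - 1) (Finset.univ.gcd d) : ℤ)
  let A := AddSubgroup.zmultiples ((Finset.univ.gcd d + 1 - g : ℤ) : ZMod δ)
  let B := AddSubgroup.zmultiples ((Int.gcd (g - 1) (Finset.univ.gcd d) : ℤ) : ZMod δ)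
  let e₀ : target (m := r - 1) δ g d ≃+ A × (Fin (r - 1) → B) :=
    { toFun := fun x => (⟨x.1.1, (AddSubgroup.mem_prod.1 x.2).1⟩,
        fun i => ⟨x.1.2 i, (AddSubgroup.mem_prod.1 x.2).2 i (Set.mem_univ i)⟩)
      invFun := fun y => ⟨(y.1.1, fun i => (y.2 i).1), AddSubgroup.mem_prod.2 ⟨y.1.2, fun i _ => (y.2 i).2⟩⟩
      left_inv := fun _ => rfl
      right_inv := fun _ => rfl
      map_add' := fun _ _ => rfl }
  exact ⟨((AddEquiv.addSubgroupMap (coords δ f) _).trans
    (AddEquiv.addSubgroupCongr (map_closure_forms δ g d f hδ hf))).trans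
      (e₀.trans (e₁.prodCongr (AddEquiv.piCongrRight fun _ => e₂)))⟩

end Groth.Agent.H4Alg.BoundaryForms
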