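import Groth.Agent.CAlgGlobalDim.RegSeq
import Groth.Agent.RegLoc6.Basic

/-!
# Independence of presentation of `dim B - ν(I)` for `A = B/I` with `B` regular
-/

universe u

namespace Groth.Agent.H4Alg.Deficiency

open IsLocalRing RingTheory.Sequence Groth.Agent.RegLoc6

/-- Syzygies of a weakly regular sequence are alternating combinations. -/
theorem exists_alt : ∀ (n : ℕ) (B : Type u) [CommRing B] (X : Fin n → B), IsWeaklyRegular B (List.ofFn X) →
    ∀ c : Fin n → B, ∑ i, c i * X i = 0 → ∃ T : Fin n → Fin n → B, ∀ i, c i = ∑ j, (T i j - T j i) * X j := by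
  intro n
  induction n with
  | zero => intro B _ X _ c _; exact ⟨fun i => i.elim0, fun i => i.elim0⟩
  | succ n ih =>
    intro B _ X hX c hc
    rw [List.ofFn_succ, isWeaklyRegular_cons_quot_iff, List.map_ofFn] at hX
    obtain ⟨h0, hX'⟩ := hX
    let π := Ideal.Quotient.mk (Ideal.span {X 0})
    rw [Fin.sum_univ_succ] at hc
    obtain ⟨T₀, hT₀⟩ := ih (B ⧸ Ideal.span {X 0}) _ hX' (fun i => π (c i.succ)) (by
      have h := congrArg π hc
      rw [map_add, map_mul, show π (X 0) = 0 from Ideal.Quotient.eq_zero_iff_mem.2 (Ideal.mem_span_singleton_self _),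
        mul_zero, zero_add, map_sum, map_zero] at h
      simpa [π] using h)
    choose T hT using fun i j => Ideal.Quotient.mk_surjective (I := Ideal.span {X 0}) (T₀ i j)
    have hv : ∀ i, ∃ v, c i.succ - ∑ j, (T i j - T j i) * X j.succ = v * X 0 := by
      intro i
      have : π (c i.succ - ∑ j, (T i j - T j i) * X j.succ) = 0 := by
        rw [map_sub, map_sum, hT₀ i, sub_eq_zero]
        refine Finset.sum_congr rfl fun j _ => ?_
        simp [π, hT]
      obtain ⟨v, hv⟩ := Ideal.mem_span_singleton'.1 (Ideal.Quotient.eq_zero_iff_mem.1 this)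
      exact ⟨v, hv.symm⟩
    choose v hv using hv
    have halt : ∑ i : Fin n, (∑ j, (T i j - T j i) * X j.succ) * X i.succ = 0 := by
      simp only [sub_mul, Finset.sum_sub_distrib, Finset.sum_mul]
      rw [sub_eq_zero, Finset.sum_comm]
      exact Finset.sum_congr rfl fun i _ => Finset.sum_congr rfl fun j _ => by ring
    refine ⟨Fin.cons (fun _ => 0) (fun i => Fin.cons (v i) (T i)), Fin.cases ?_ fun i => ?_⟩
    · simp only [Fin.sum_univ_succ, Fin.cons_zero, Fin.cons_succ, sub_self, zero_mul, zero_add, zero_sub, neg_mul,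
        Finset.sum_neg_distrib]
      have hsum : ∑ i : Fin n, c i.succ * X i.succ = (∑ i, v i * X i.succ) * X 0 := by
        rw [Finset.sum_mul]
        calc ∑ i : Fin n, c i.succ * X i.succ
            = ∑ i : Fin n, ((v i * X i.succ * X 0) + (∑ j, (T i j - T j i) * X j.succ) * X i.succ) :=
              Finset.sum_congr rfl fun i _ => by rw [eq_add_of_sub_eq (hv i)]; ring
          _ = _ := by rw [Finset.sum_add_distrib, halt, add_zero]
      rw [hsum] at hc
      refine eq_neg_of_add_eq_zero_left (h0 ?_)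
      simp only [smul_eq_mul, mul_zero]
      linear_combination hc
    · simp only [Fin.sum_univ_succ, Fin.cons_zero, Fin.cons_succ, sub_zero]
      linear_combination hv i

variable {A : Type u} [CommRing A] [IsLocalRing A] [IsNoetherianRing A]

theorem exists_gens {R : Type u} [CommRing R] [IsNoetherianRing R] (J : Ideal R) :
    ∃ X : Fin J.spanFinrank → R, Ideal.span (Set.range X) = J := by
  obtain ⟨s, hcard, hspan⟩ := (IsNoetherian.noetherian J).exists_span_set_encard_eq_spanFinrank
  have hfin : s.Finite := Set.finite_of_encard_eq_coe hcard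
  have hn : hfin.toFinset.card = J.spanFinrank := by
    rw [← Set.ncard_eq_toFinset_card s hfin, Set.ncard, hcard, ENat.toNat_coe]
  refine ⟨fun i => ((Finset.equivFinOfCardEq hn).symm i : R), ?_⟩
  refine Eq.trans (congrArg Ideal.span (Set.ext fun y => ?_)) hspan
  constructor
  · rintro ⟨i, rfl⟩; exact hfin.mem_toFinset.1 ((Finset.equivFinOfCardEq hn).symm i).2
  · intro hy; exact ⟨Finset.equivFinOfCardEq hn ⟨y, hfin.mem_toFinset.2 hy⟩, by simp⟩

theorem map_maximalIdeal {B : Type u} [CommRing B] [IsLocalRing B] (f : B →+* A) (hf : Function.Surjective f) :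
    (maximalIdeal B).map f = maximalIdeal A :=
  IsLocalRing.eq_maximalIdeal (Ideal.IsMaximal.map_of_surjective_of_ker_le hf
    (le_maximalIdeal (RingHom.ker_ne_top f)))

theorem span_lift {B : Type u} [CommRing B] [IsLocalRing B] [IsNoetherianRing B] (f : B →+* A)
    (hf : Function.Surjective f) (hI : RingHom.ker f ≤ maximalIdeal B ^ 2) {n : ℕ} (X : Fin n → B)
    (hX : Ideal.span (Set.range (f ∘ X)) = maximalIdeal A) : Ideal.span (Set.range X) = maximalIdeal B := by
  have hmem : ∀ i, X i ∈ maximalIdeal B := fun i => by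
    have h : f (X i) ∈ maximalIdeal A := hX ▸ Ideal.subset_span ⟨i, rfl⟩
    rw [← map_maximalIdeal f hf, ← Ideal.mem_comap, Ideal.comap_map_of_surjective' f hf] at h
    exact sup_le le_rfl (le_maximalIdeal (RingHom.ker_ne_top f)) h
  refine le_antisymm (Ideal.span_le.2 (Set.range_subset_iff.2 hmem)) ?_
  refine Submodule.le_of_le_smul_of_le_jacobson_bot (IsNoetherian.noetherian _)
    (IsLocalRing.maximalIdeal_le_jacobson _) ?_
  rw [smul_eq_mul, ← sq]
  intro y hy
  have h : f y ∈ (Ideal.span (Set.range X)).map f := by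
    rw [Ideal.map_span, ← Set.range_comp, hX, ← map_maximalIdeal f hf]
    exact Ideal.mem_map_of_mem f hy
  rw [← Ideal.mem_comap, Ideal.comap_map_of_surjective' f hf] at h
  exact sup_le_sup_left hI _ h

theorem spanFinrank_le_of_range {R : Type u} [CommRing R] {J : Ideal R} {n : ℕ} (X : Fin n → R)
    (h : Ideal.span (Set.range X) = J) : J.spanFinrank ≤ n := by
  rw [← h]
  refine (Submodule.spanFinrank_span_le_ncard_of_finite (Set.finite_range X)).trans ?_
  rw [← Set.image_univ]
  exact (Set.ncard_image_le Set.finite_univ).trans (by simp)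

/-- The case of minimal presentations. -/
theorem minimal_le {B B' : Type u} [CommRing B] [IsRegularLocalRing B] [CommRing B'] [IsRegularLocalRing B']
    (f : B →+* A) (hf : Function.Surjective f) (f' : B' →+* A) (hf' : Function.Surjective f')
    (hI : RingHom.ker f ≤ maximalIdeal B ^ 2) (hI' : RingHom.ker f' ≤ maximalIdeal B' ^ 2) :
    (maximalIdeal B').spanFinrank ≤ (maximalIdeal B).spanFinrank ∧
      (RingHom.ker f').spanFinrank ≤ (RingHom.ker f).spanFinrank := by
  obtain ⟨X, hX⟩ := exists_gens (maximalIdeal B)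
  have hx : Ideal.span (Set.range (f ∘ X)) = maximalIdeal A := by
    rw [Set.range_comp, ← Ideal.map_span, hX, map_maximalIdeal f hf]
  choose X' hX' using fun i => hf' (f (X i))
  have hX'span : Ideal.span (Set.range X') = maximalIdeal B' :=
    span_lift f' hf' hI' X' (by rw [show f' ∘ X' = f ∘ X from funext hX', hx])
  refine ⟨spanFinrank_le_of_range X' hX'span, ?_⟩
  have hreg : IsWeaklyRegular B (List.ofFn X) := by
    refine CAlgGlobalDim.isWeaklyRegular_of_generators _ B _ List.length_ofFn ?_ le_rfl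
    rw [CAlgGlobalDim.ofList_ofFn, hX]
  obtain ⟨y, hy⟩ := exists_gens (RingHom.ker f)
  have hb : ∀ t, ∃ b : Fin (maximalIdeal B).spanFinrank → B, ∑ i, b i * X i = y t := fun t => by
    refine Ideal.mem_span_range_iff_exists_fun.1 ?_
    rw [hX]
    exact Ideal.pow_le_self two_ne_zero (hI (hy ▸ Ideal.subset_span ⟨t, rfl⟩))
  choose b hb using hb
  choose b' hb' using fun t i => hf' (f (b t i))
  let y' : Fin (RingHom.ker f).spanFinrank → B' := fun t => ∑ i, b' t i * X' i
  have hy'mem : ∀ t, y' t ∈ RingHom.ker f' := fun t => by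
    have : f' (y' t) = f (y t) := by simp [y', ← hb, hb', hX']
    rw [RingHom.mem_ker, this]
    exact RingHom.mem_ker.1 (hy.le (Ideal.subset_span ⟨t, rfl⟩))
  refine spanFinrank_le_of_range y' (le_antisymm (Ideal.span_le.2 (Set.range_subset_iff.2 hy'mem)) ?_)
  refine Submodule.le_of_le_smul_of_le_jacobson_bot (IsNoetherian.noetherian _)
    (IsLocalRing.maximalIdeal_le_jacobson _) ?_
  intro z hz
  obtain ⟨c', hc'⟩ : ∃ c' : _ → B', ∑ i, c' i * X' i = z :=
    Ideal.mem_span_range_iff_exists_fun.1 (by rw [hX'span]; exact Ideal.pow_le_self two_ne_zero (hI' hz))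
  choose c hc using fun i => hf (f' (c' i))
  have hcI : ∑ i, c i * X i ∈ RingHom.ker f := by
    rw [RingHom.mem_ker, map_sum]
    have : f' z = 0 := hz
    rw [← hc', map_sum] at this
    simpa [hc, hX'] using this
  obtain ⟨r, hr⟩ : ∃ r : _ → B, ∑ t, r t * y t = ∑ i, c i * X i :=
    Ideal.mem_span_range_iff_exists_fun.1 (by rw [hy]; exact hcI)
  obtain ⟨T, hT⟩ := exists_alt _ B X hreg (fun i => c i - ∑ t, r t * b t i) (by
    simp only [sub_mul, Finset.sum_sub_distrib, Finset.sum_mul, mul_assoc]
    rw [Finset.sum_comm, sub_eq_zero, ← hr]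
    exact Finset.sum_congr rfl fun t _ => by rw [← hb, Finset.mul_sum])
  choose r' hr' using fun t => hf' (f (r t))
  choose T' hT' using fun i j => hf' (f (T i j))
  let e := fun i => c' i - ∑ t, r' t * b' t i - ∑ j, (T' i j - T' j i) * X' j
  have he : ∀ i, e i ∈ RingHom.ker f' := fun i => by
    have h := congrArg f (hT i)
    simp only [map_sub, map_sum, map_mul, hc] at h
    simp only [e, RingHom.mem_ker, map_sub, map_sum, map_mul, hr', hb', hT', hX', h, sub_self]
  have halt : ∑ i, (∑ j, (T' i j - T' j i) * X' j) * X' i = 0 := by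
    simp only [sub_mul, Finset.sum_sub_distrib, Finset.sum_mul]
    rw [sub_eq_zero, Finset.sum_comm]
    exact Finset.sum_congr rfl fun i _ => Finset.sum_congr rfl fun j _ => by ring
  have hz' : z = ∑ t, r' t * y' t + ∑ i, X' i * e i := by
    have h1 : ∑ t, r' t * y' t = ∑ i, (∑ t, r' t * b' t i) * X' i := by
      simp only [y', Finset.mul_sum, Finset.sum_mul]
      rw [Finset.sum_comm]
      simp only [mul_assoc]
    have h2 : ∑ i, X' i * e i = ∑ i, c' i * X' i - ∑ i, (∑ t, r' t * b' t i) * X' i := by
      rw [← Finset.sum_sub_distrib, ← sub_zero (∑ i, (c' i * X' i - _)), ← halt, ← Finset.sum_sub_distrib]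
      exact Finset.sum_congr rfl fun i _ => by simp only [e]; ring
    rw [h1, h2, hc']
    ring
  rw [hz']
  refine Submodule.add_mem_sup (sum_mem fun t _ => Ideal.mul_mem_left _ _ (Ideal.subset_span ⟨t, rfl⟩))
    (sum_mem fun i _ => Submodule.smul_mem_smul (hX'span ▸ Ideal.subset_span ⟨i, rfl⟩) (he i))

/-- Removing a regular parameter from the kernel. -/
theorem exists_minimal : ∀ (N : ℕ) (B : Type u) [CommRing B] [IsRegularLocalRing B],
    (maximalIdeal B).spanFinrank ≤ N → ∀ f : B →+* A, Function.Surjective f →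
      ∃ (B₀ : Type u) (_ : CommRing B₀) (_ : IsRegularLocalRing B₀) (f₀ : B₀ →+* A), Function.Surjective f₀ ∧
        RingHom.ker f₀ ≤ maximalIdeal B₀ ^ 2 ∧
        (maximalIdeal B).spanFinrank + (RingHom.ker f₀).spanFinrank =
          (maximalIdeal B₀).spanFinrank + (RingHom.ker f).spanFinrank := by
  intro N
  induction N with
  | zero =>
    intro B _ _ hN f hf
    refine ⟨B, inferInstance, inferInstance, f, hf, ?_, rfl⟩
    have h0 : maximalIdeal B = ⊥ := by
      rw [← Submodule.spanFinrank_eq_zero_iff_eq_bot (IsNoetherian.noetherian _)]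
      omega
    exact (le_maximalIdeal (RingHom.ker_ne_top f)).trans (by rw [h0]; exact bot_le)
  | succ N ih =>
    intro B _ _ hN f hf
    by_cases hle : RingHom.ker f ≤ maximalIdeal B ^ 2
    · exact ⟨B, inferInstance, inferInstance, f, hf, hle, rfl⟩
    obtain ⟨x, hxI, hx2⟩ := SetLike.not_le_iff_exists.1 hle
    have hxm : x ∈ maximalIdeal B := le_maximalIdeal (RingHom.ker_ne_top f) hxI
    haveI := isLocalRing_quot hxm
    haveI := (isRegularLocalRing_quot_and hxm hx2).1
    let g : B ⧸ Ideal.span {x} →+* A := Ideal.Quotient.lift _ f fun z hz =>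
      ((Ideal.span_singleton_le_iff_mem _).2 hxI hz)
    have hg : Function.Surjective g := Ideal.Quotient.lift_surjective_of_surjective _ _ hf
    have hd1 := spanFinrank_quot_le hxm hx2
    have hd2 := spanFinrank_le_quot hxm
    obtain ⟨B₀, i1, i2, f₀, hf₀, hk, heq⟩ := ih _ (by omega) g hg
    refine ⟨B₀, i1, i2, f₀, hf₀, hk, ?_⟩
    suffices (RingHom.ker g).spanFinrank + 1 = (RingHom.ker f).spanFinrank by omega
    have hkg : RingHom.ker g = (RingHom.ker f).map (Ideal.Quotient.mk (Ideal.span {x})) :=
      Ideal.ker_quotient_lift f _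
    refine le_antisymm ?_ ?_
    · obtain ⟨y, hy⟩ := exists_gens (RingHom.ker f)
      obtain ⟨r, hr⟩ : ∃ r : _ → B, ∑ t, r t * y t = x := Ideal.mem_span_range_iff_exists_fun.1 (by rw [hy]; exact hxI)
      obtain ⟨t₀, ht₀⟩ : ∃ t, r t ∉ maximalIdeal B := by
        by_contra hne
        push Not at hne
        refine hx2 ?_
        rw [← hr, sq]
        exact sum_mem fun t _ => Ideal.mul_mem_mul (hne t)
          (le_maximalIdeal (RingHom.ker_ne_top f) (hy ▸ Ideal.subset_span ⟨t, rfl⟩))
      obtain ⟨q', hq'⟩ : ∃ q', (RingHom.ker f).spanFinrank = q' + 1 := ⟨_, (Nat.succ_pred_eq_of_pos t₀.pos).symm⟩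
      have hgen : RingHom.ker g ≤ Ideal.span
          (Set.range fun t : {t // t ≠ t₀} => Ideal.Quotient.mk (Ideal.span {x}) (y t)) := by
        refine hkg.le.trans (le_trans (Ideal.map_mono hy.ge) ?_)
        rw [Ideal.map_span, Ideal.span_le]
        rintro _ ⟨_, ⟨t, rfl⟩, rfl⟩
        by_cases ht : t = t₀
        · subst ht
          obtain ⟨w, hw⟩ := (IsLocalRing.notMem_maximalIdeal.1 ht₀).exists_left_inv
          have h0 := congrArg (Ideal.Quotient.mk (Ideal.span {x})) hr
          rw [map_sum, ← Finset.add_sum_erase _ _ (Finset.mem_univ t),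
            Ideal.Quotient.eq_zero_iff_mem.2 (Ideal.mem_span_singleton_self x), map_mul] at h0
          have h1 : Ideal.Quotient.mk (Ideal.span {x}) (y t) = -(Ideal.Quotient.mk _ w *
              ∑ s ∈ Finset.univ.erase t, Ideal.Quotient.mk (Ideal.span {x}) (r s * y s)) := by
            have hw' := congrArg (Ideal.Quotient.mk (Ideal.span {x})) hw
            rw [map_mul, map_one] at hw'
            linear_combination (Ideal.Quotient.mk (Ideal.span {x}) w) * h0 -
              (Ideal.Quotient.mk (Ideal.span {x}) (y t)) * hw'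
          rw [SetLike.mem_coe, h1]
          refine Submodule.neg_mem _ (Ideal.mul_mem_left _ _ (sum_mem fun s hs => ?_))
          rw [map_mul]
          exact Ideal.mul_mem_left _ _ (Ideal.subset_span ⟨⟨s, (Finset.mem_erase.1 hs).1⟩, rfl⟩)
        · exact Ideal.subset_span ⟨⟨t, ht⟩, rfl⟩
      have hge : Ideal.span (Set.range fun t : {t // t ≠ t₀} => Ideal.Quotient.mk (Ideal.span {x}) (y t)) ≤
          RingHom.ker g := by
        rw [hkg, Ideal.span_le]
        rintro _ ⟨t, rfl⟩
        exact Ideal.mem_map_of_mem _ (hy.le (Ideal.subset_span ⟨t.1, rfl⟩))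
      have hc : Fintype.card {t // t ≠ t₀} = q' := by simp [Fintype.card_subtype_compl, hq']
      have := spanFinrank_le_of_range
        ((fun t : {t // t ≠ t₀} => Ideal.Quotient.mk (Ideal.span {x}) (y t)) ∘ (Fintype.equivFinOfCardEq hc).symm)
        (J := RingHom.ker g) (by rw [EquivLike.range_comp]; exact le_antisymm hge hgen)
      omega
    · obtain ⟨y, hy⟩ := exists_gens (RingHom.ker g)
      choose z hz using fun t => Ideal.Quotient.mk_surjective (y t)
      refine spanFinrank_le_of_range (Fin.cons x z) (le_antisymm ?_ ?_)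
      · rw [Ideal.span_le]
        rintro _ ⟨t, rfl⟩
        induction t using Fin.cases with
        | zero => exact hxI
        | succ t =>
          show f (z t) = 0
          have : g (y t) = 0 := RingHom.mem_ker.1 (hy.le (Ideal.subset_span ⟨t, rfl⟩))
          rwa [← hz t] at this
      · intro a ha
        have h : Ideal.Quotient.mk (Ideal.span {x}) a ∈ (Ideal.span (Set.range z)).map (Ideal.Quotient.mk _) := by
          rw [Ideal.map_span, ← Set.range_comp, show Ideal.Quotient.mk (Ideal.span {x}) ∘ z = y from funext hz, hy]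
          exact ha
        rw [← Ideal.mem_comap, Ideal.comap_map_of_surjective' _ Ideal.Quotient.mk_surjective, Ideal.mk_ker] at h
        refine (show _ ≤ Ideal.span (Set.range (Fin.cons x z : Fin _ → B)) from sup_le ?_ ?_) h
        · exact Ideal.span_mono (by rintro _ ⟨t, rfl⟩; exact ⟨t.succ, Fin.cons_succ _ _ _⟩)
        · exact Ideal.span_mono (by rintro _ rfl; exact ⟨0, Fin.cons_zero _ _⟩)

/-- `dim B - ν(I)` is independent of the presentation. -/
theorem deficiency_eq {B B' : Type u} [CommRing B] [IsRegularLocalRing B] [CommRing B'] [IsRegularLocalRing B']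
    (f : B →+* A) (hf : Function.Surjective f) (f' : B' →+* A) (hf' : Function.Surjective f') :
    (maximalIdeal B).spanFinrank + (RingHom.ker f').spanFinrank =
      (maximalIdeal B').spanFinrank + (RingHom.ker f).spanFinrank := by
  obtain ⟨C, _, _, g, hg, hkg, h1⟩ := exists_minimal _ B le_rfl f hf
  obtain ⟨C', _, _, g', hg', hkg', h2⟩ := exists_minimal _ B' le_rfl f' hf'
  obtain ⟨a, b⟩ := minimal_le g hg g' hg' hkg hkg'
  obtain ⟨a', b'⟩ := minimal_le g' hg' g hg hkg' hkg
  omega

end Groth.Agent.H4Alg.Deficiency
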